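import Mathlib
import Cfsg.Agent.Fg24.TwentyTwo.Setup

/-!
Groups with 21 Sylow 5-subgroups: the set-up, and reduction to Sylow subgroups of order 5.
-/

set_option autoImplicit false

namespace Cfsg.Agent.Fg24.TwentyOne

open Cfsg.Agent.Fg24.TwentyTwo (fix_modEq)

variable {G : Type*} [Group G] [Finite G]

/-- The reduced situation. -/
structure Ctx (G : Type*) [Group G] : Prop where
  n21 : Nat.card (Sylow 5 G) = 21
  faith : ∀ g : G, (∀ Q : Sylow 5 G, g • Q = Q) → g = 1
  gen : ∀ H : Subgroup G, (∀ P : Sylow 5 G, (P : Subgroup G) ≤ H) → H = ⊤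

instance fact_five : Fact (Nat.Prime 5) := ⟨by norm_num⟩

theorem mem_of_fix {Q : Sylow 5 G} {z : G} {k : ℕ} (hz : z ^ 5 ^ k = 1) (h : z • Q = Q) :
    z ∈ (Q : Subgroup G) := by
  have hp : IsPGroup 5 (Subgroup.zpowers z) := by
    rintro ⟨w, i, rfl⟩
    refine ⟨k, Subtype.ext ?_⟩
    push_cast
    rw [← zpow_natCast, ← zpow_mul, mul_comm, zpow_mul, zpow_natCast, hz, one_zpow]
  have h1 : z ∈ Subgroup.zpowers z ⊓ Subgroup.normalizer (Q : Set G) :=
    ⟨Subgroup.mem_zpowers z, Sylow.smul_eq_iff_mem_normalizer.1 h⟩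
  rw [hp.inf_normalizer_sylow] at h1
  exact h1.2

theorem fix_of_mem {Q : Sylow 5 G} {z : G} (hz : z ∈ (Q : Subgroup G)) : z • Q = Q :=
  Sylow.smul_eq_iff_mem_normalizer.2 (Subgroup.le_normalizer hz)

theorem pow_five_of_mem (Q : Sylow 5 G) {z : G} (hz : z ∈ (Q : Subgroup G)) :
    ∃ k, z ^ 5 ^ k = 1 := by
  obtain ⟨k, hk⟩ := Q.isPGroup' ⟨z, hz⟩
  exact ⟨k, by simpa using congrArg Subtype.val hk⟩

theorem hom_trivial (hc : Ctx G) {A : Type*} [Group A] [Finite A] (hA : ¬ 5 ∣ Nat.card A)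
    (f : G →* A) (g : G) : f g = 1 := by
  have hker : f.ker = ⊤ := hc.gen _ fun P z hz => by
    obtain ⟨k, hk⟩ := pow_five_of_mem P hz
    rw [MonoidHom.mem_ker, ← orderOf_eq_one_iff]
    refine Nat.eq_one_of_dvd_coprimes ?_ (orderOf_dvd_natCard (f z))
      (orderOf_dvd_of_pow_eq_one (by rw [← map_pow, hk, map_one]))
    exact (Nat.Coprime.pow_left k
      ((Fact.out : Nat.Prime 5).coprime_iff_not_dvd.2 hA)).symm
  exact MonoidHom.mem_ker.1 (hker ▸ Subgroup.mem_top g)

theorem card_eq (hc : Ctx G) (P : Sylow 5 G) :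
    Nat.card G = 21 * Nat.card (Subgroup.normalizer ((P : Subgroup G) : Set G)) := by
  rw [← hc.n21, Sylow.card_eq_index_normalizer P]
  exact (Subgroup.index_mul_card _).symm

theorem card_sylow_eq (P Q : Sylow 5 G) : Nat.card (P : Subgroup G) = Nat.card (Q : Subgroup G) :=
  Nat.card_congr (Sylow.equiv P Q).toEquiv

/-- The index of the intersection of two Sylow subgroups. -/
theorem inter_index (hc : Ctx G) {P Q : Sylow 5 G} (h : P ≠ Q) :
    ((Q : Subgroup G).subgroupOf (P : Subgroup G)).index = 5 ∧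
    (MulAction.orbit (P : Subgroup G) Q).ncard = 5 ∧
    5 * Nat.card ↥((P : Subgroup G) ⊓ (Q : Subgroup G)) = Nat.card (P : Subgroup G) := by
  have hst : MulAction.stabilizer ↥(P : Subgroup G) Q = (Q : Subgroup G).subgroupOf P := by
    ext x
    rw [MulAction.mem_stabilizer_iff]
    change ((x : G) • Q = Q) ↔ _
    rw [Subgroup.mem_subgroupOf]
    exact ⟨fun hx => mem_of_fix (pow_five_of_mem P x.2).choose_spec hx, fix_of_mem⟩
  have horb : ((Q : Subgroup G).subgroupOf (P : Subgroup G)).index =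
      (MulAction.orbit (P : Subgroup G) Q).ncard := by
    rw [← hst, MulAction.index_stabilizer]
  have h5 : ((Q : Subgroup G).subgroupOf (P : Subgroup G)).index = 5 := by
    obtain ⟨k, hk⟩ := P.isPGroup'.index ((Q : Subgroup G).subgroupOf (P : Subgroup G))
    have hle : (MulAction.orbit (P : Subgroup G) Q).ncard ≤ 21 := by
      rw [← hc.n21, ← Set.ncard_univ]
      exact Set.ncard_le_ncard (Set.subset_univ _)
    rw [← horb, hk] at hle
    rw [hk]
    match k with
    | 0 =>
      exfalso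
      rw [pow_zero, Subgroup.index_eq_one, Subgroup.subgroupOf_eq_top] at hk
      exact h (Sylow.ext (P.3 Q.2 hk)).symm
    | 1 => rfl
    | k + 2 =>
      have : 5 ^ 2 ≤ 5 ^ (k + 2) := Nat.pow_le_pow_right (by norm_num) (by omega)
      omega
  refine ⟨h5, horb ▸ h5, ?_⟩
  have h1 : Nat.card ((Q : Subgroup G).subgroupOf (P : Subgroup G)) =
      Nat.card ↥((P : Subgroup G) ⊓ (Q : Subgroup G)) := by
    rw [← Subgroup.inf_subgroupOf_left]
    exact Nat.card_congr (Subgroup.subgroupOfEquivOfLe inf_le_left).toEquiv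
  rw [← h1]
  have h2 := Subgroup.index_mul_card ((Q : Subgroup G).subgroupOf (P : Subgroup G))
  rwa [h5] at h2

/-- A point of the line of `P`, `Q` is carried into it by `P`. -/
theorem conj_inter (hc : Ctx G) {P Q : Sylow 5 G} (h : P ≠ Q) {x : G} (hx : x ∈ (P : Subgroup G))
    {z : G} (hz : z ∈ (P : Subgroup G) ⊓ (Q : Subgroup G)) :
    x * z * x⁻¹ ∈ (P : Subgroup G) ⊓ (Q : Subgroup G) := by
  have hn : ((Q : Subgroup G).subgroupOf (P : Subgroup G)).Normal := by
    apply Subgroup.normal_of_index_eq_minFac_card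
    obtain ⟨k, hk⟩ := IsPGroup.iff_card.1 P.isPGroup'
    rw [(inter_index hc h).1, hk, (Fact.out : Nat.Prime 5).pow_minFac]
    rintro rfl
    have := (inter_index hc h).2.2
    rw [hk] at this
    omega
  have h1 := hn.conj_mem ⟨z, hz.1⟩ (Subgroup.mem_subgroupOf.2 hz.2) ⟨x, hx⟩
  rw [Subgroup.mem_subgroupOf] at h1
  refine Subgroup.mem_inf.2 ⟨mul_mem (mul_mem hx hz.1) (inv_mem hx), ?_⟩
  simpa using h1

theorem smul_mem (hc : Ctx G) {P Q R : Sylow 5 G} (h : P ≠ Q) {x : G} (hx : x ∈ (P : Subgroup G))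
    (hR : (P : Subgroup G) ⊓ (Q : Subgroup G) ≤ (R : Subgroup G)) :
    (P : Subgroup G) ⊓ (Q : Subgroup G) ≤ ((x • R : Sylow 5 G) : Subgroup G) := by
  intro z hz
  rw [Sylow.coe_subgroup_smul, Subgroup.mem_pointwise_smul_iff_inv_smul_mem]
  have h2 := hR (conj_inter hc h (inv_mem hx) hz)
  simpa [MulAut.smul_def] using h2

/-- The Sylow 5-subgroups have order 5. -/
theorem order_five (hc : Ctx G) (P : Sylow 5 G) : Nat.card (P : Subgroup G) = 5 := by
  classical
  haveI : Nontrivial (Sylow 5 G) := Finite.one_lt_card_iff_nontrivial.1 (by rw [hc.n21]; norm_num)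
  obtain ⟨Q, hQ'⟩ := exists_ne P
  have hQ : P ≠ Q := hQ'.symm
  set D := (P : Subgroup G) ⊓ (Q : Subgroup G) with hD
  have hD5 := (inter_index hc hQ).2.2
  suffices hbot : D = ⊥ by
    rw [← hD5, ← hD, hbot, Subgroup.card_bot]
  -- otherwise some Sylow subgroup avoids `D`
  by_contra hne
  obtain ⟨R, hR⟩ : ∃ R : Sylow 5 G, ¬ D ≤ (R : Subgroup G) := by
    by_contra hall
    push Not at hall
    exact hne (eq_bot_iff.2 fun z hz => Subgroup.mem_bot.2 (hc.faith z fun R => fix_of_mem (hall R hz)))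
  set L := {S : Sylow 5 G | D ≤ (S : Subgroup G)} with hL
  have hsub : insert P (MulAction.orbit (P : Subgroup G) Q) ⊆ L := by
    intro S hS
    show D ≤ (S : Subgroup G)
    rcases Set.mem_insert_iff.1 hS with e | ⟨x, e⟩
    · rw [e]; exact inf_le_left
    · rw [← e]; exact smul_mem hc hQ x.2 inf_le_right
  have hL6 : 6 ≤ L.ncard := by
    refine le_trans (le_of_eq ?_) (Set.ncard_le_ncard hsub)
    rw [Set.ncard_insert_of_notMem, (inter_index hc hQ).2.1]
    rintro ⟨x, hx⟩
    have : (x : G) • Q = (x : G) • P := by rw [fix_of_mem x.2]; exact hx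
    exact hQ (MulAction.injective (x : G) this).symm
  -- the orbits of `R` off itself
  let f : Sylow 5 G → Set (Sylow 5 G) := fun S => MulAction.orbit (R : Subgroup G) S
  have hfT : (f '' ({R}ᶜ : Set (Sylow 5 G))).ncard ≤ 4 := by
    have hfib : ∀ b ∈ f '' ({R}ᶜ : Set (Sylow 5 G)), b.ncard = 5 ∧ b ⊆ {R}ᶜ := by
      rintro b ⟨S, hS, rfl⟩
      refine ⟨(inter_index hc (fun e => hS e.symm)).2.1, ?_⟩
      rintro T ⟨x, rfl⟩ he
      have he' : (x : G) • S = R := he
      have : (x : G) • S = (x : G) • R := by rw [fix_of_mem x.2]; exact he'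
      exact hS (MulAction.injective (x : G) this)
    have hdisj : ∀ b ∈ f '' ({R}ᶜ : Set (Sylow 5 G)), ∀ c ∈ f '' ({R}ᶜ : Set (Sylow 5 G)),
        b ≠ c → Disjoint b c := by
      rintro b ⟨S, -, rfl⟩ c ⟨T, -, rfl⟩ hbc
      rw [Set.disjoint_left]
      intro U hU hU'
      exact hbc ((MulAction.orbit_eq_iff.2 hU).symm.trans (MulAction.orbit_eq_iff.2 hU'))
    set O := (f '' ({R}ᶜ : Set (Sylow 5 G))).toFinite.toFinset with hO
    have hsum : (O.biUnion fun b => b.toFinite.toFinset).card = O.card * 5 := by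
      rw [Finset.card_biUnion, Finset.sum_const_nat]
      · intro b hb
        rw [← Set.ncard_eq_toFinset_card]
        exact (hfib b (by simpa [hO] using hb)).1
      · intro b hb c hc' hbc
        have := hdisj b (by simpa [hO] using hb) c (by simpa [hO] using hc') hbc
        simpa [Function.onFun] using this
    have hle : (O.biUnion fun b => b.toFinite.toFinset).card ≤ 20 := by
      refine le_trans (Finset.card_le_card (t := ({R}ᶜ : Set (Sylow 5 G)).toFinite.toFinset) ?_) ?_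
      · intro T hT
        simp only [Finset.mem_biUnion] at hT
        obtain ⟨b, hb, hTb⟩ := hT
        rw [Set.Finite.mem_toFinset] at hTb ⊢
        exact (hfib b (by simpa [hO] using hb)).2 hTb
      · rw [← Set.ncard_eq_toFinset_card, Set.ncard_compl, Set.ncard_singleton, hc.n21]
    rw [Set.ncard_eq_toFinset_card _ (f '' ({R}ᶜ : Set (Sylow 5 G))).toFinite, ← hO]
    omega
  obtain ⟨S, hS, T, hT, hST, hfST⟩ : ∃ S ∈ L, ∃ T ∈ L, S ≠ T ∧ f S = f T := by
    by_contra hno
    push Not at hno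
    have hinj : Set.InjOn f L := fun a ha b hb hab => by
      by_contra hne'
      exact hno a ha b hb hne' hab
    have h1 := Set.ncard_le_ncard (Set.image_mono (f := f)
      (show L ⊆ ({R}ᶜ : Set (Sylow 5 G)) from fun S hS e => hR (e ▸ hS)))
    rw [hinj.ncard_image] at h1
    omega
  obtain ⟨r, hr⟩ : T ∈ MulAction.orbit (R : Subgroup G) S := by
    have : MulAction.orbit (R : Subgroup G) S = MulAction.orbit (R : Subgroup G) T := hfST
    rw [this]
    exact MulAction.mem_orbit_self T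
  have hRS : R ≠ S := fun e => hR (e ▸ hS)
  set E := (R : Subgroup G) ⊓ (S : Subgroup G) with hE
  have hET : E ≤ (T : Subgroup G) := by
    rw [← hr]
    exact smul_mem hc hRS r.2 inf_le_right
  have hEST : E ≤ (S : Subgroup G) ⊓ (T : Subgroup G) := le_inf inf_le_right hET
  have hDST : D ≤ (S : Subgroup G) ⊓ (T : Subgroup G) := le_inf hS hT
  have c1 := (inter_index hc hST).2.2
  have c2 := (inter_index hc hRS).2.2
  rw [card_sylow_eq S P, ← hD5] at c1
  rw [card_sylow_eq R P, ← hD5] at c2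
  have e1 : E = (S : Subgroup G) ⊓ (T : Subgroup G) :=
    Subgroup.eq_of_le_of_card_ge hEST (by rw [hE]; omega)
  exact hR ((hDST.trans_eq e1.symm).trans inf_le_left)

theorem sign_eq_one (hc : Ctx G) [Fintype (Sylow 5 G)] [DecidableEq (Sylow 5 G)] (g : G) :
    Equiv.Perm.sign (MulAction.toPermHom G (Sylow 5 G) g) = 1 := by
  refine hom_trivial hc ?_ (Equiv.Perm.sign.comp (MulAction.toPermHom G (Sylow 5 G))) g
  rw [Nat.card_eq_fintype_card, Fintype.card_units_int]
  norm_num

theorem toPerm_eq_one (hc : Ctx G) {g : G} (h : MulAction.toPermHom G (Sylow 5 G) g = 1) :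
    g = 1 :=
  hc.faith g fun Q => by simpa using congrArg (fun e : Equiv.Perm (Sylow 5 G) => e Q) h

theorem eq_one_of_fix_21 (hc : Ctx G) {y : G} (h : {Q : Sylow 5 G | y • Q = Q}.ncard = 21) :
    y = 1 := by
  refine hc.faith y fun Q => ?_
  have : {Q : Sylow 5 G | y • Q = Q} = Set.univ := by
    refine Set.eq_of_subset_of_ncard_le (Set.subset_univ _) ?_
    rw [h, Set.ncard_univ, hc.n21]
  exact (this ▸ Set.mem_univ Q : Q ∈ {Q : Sylow 5 G | y • Q = Q})

theorem fix_le_21 (hc : Ctx G) (y : G) : {Q : Sylow 5 G | y • Q = Q}.ncard ≤ 21 :=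
  (Set.ncard_le_ncard (Set.subset_univ _)).trans_eq (by rw [Set.ncard_univ, hc.n21])

theorem fix_modEq_21 (hc : Ctx G) (q : ℕ) [Fact q.Prime] (y : G) (hy : y ^ q = 1) :
    21 ≡ {Q : Sylow 5 G | y • Q = Q}.ncard [MOD q] := by
  have h := fix_modEq q y hy (Set.univ : Set (Sylow 5 G)) fun _ _ => trivial
  simpa [Set.ncard_univ, hc.n21] using h

/-- An involution moves a number of points divisible by 4. -/
theorem involution_moved (hc : Ctx G) {w : G} (hw : w ^ 2 = 1) :
    4 ∣ 21 - {Q : Sylow 5 G | w • Q = Q}.ncard := by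
  classical
  have := Fintype.ofFinite (Sylow 5 G)
  rcases eq_or_ne w 1 with rfl | hne
  · rw [show {Q : Sylow 5 G | (1 : G) • Q = Q} = Set.univ by simp, Set.ncard_univ, hc.n21]
    norm_num
  set W := MulAction.toPermHom G (Sylow 5 G) w with hW
  have ho : orderOf W = 2 := orderOf_eq_prime (by rw [hW, ← map_pow, hw, map_one])
    fun h => hne (toPerm_eq_one hc h)
  obtain ⟨n, hn⟩ := Equiv.Perm.cycleType_prime_order (σ := W) (by rw [ho]; exact Nat.prime_two)
  rw [ho] at hn
  have hsum := W.sum_cycleType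
  rw [hn, Multiset.sum_replicate, smul_eq_mul] at hsum
  have hs := sign_eq_one hc w
  rw [← hW, Equiv.Perm.sign_of_cycleType, hn, Multiset.sum_replicate, Multiset.card_replicate,
    smul_eq_mul] at hs
  have hev : Even ((n + 1) * 2 + (n + 1)) := by
    by_contra hodd
    rw [Nat.not_even_iff_odd] at hodd
    rw [hodd.neg_one_pow] at hs
    exact absurd hs (by decide)
  have hfix : {Q : Sylow 5 G | w • Q = Q} = ((W.support : Set (Sylow 5 G)))ᶜ := by
    ext Q
    simp [hW]
  rw [hfix, Set.ncard_compl, Set.ncard_coe_finset, hc.n21, ← hsum]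
  have hle : (n + 1) * 2 ≤ 21 := by
    rw [hsum, ← hc.n21, Nat.card_eq_fintype_card]; exact Finset.card_le_univ _
  rw [Nat.even_iff] at hev
  omega

end Cfsg.Agent.Fg24.TwentyOne
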