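import Mathlib
import Cfsg.Agent.Fg24.TwentyOne.Setup

/-!
Groups with 21 Sylow 5-subgroups: the stabiliser of a point permutes five orbits.
-/

set_option autoImplicit false

namespace Cfsg.Agent.Fg24.TwentyOne

open Cfsg.Agent.Fg24.TwentyTwo (fix_modEq)

variable {G : Type*} [Group G] [Finite G]

/-- A point `P` with a generator `x` of that Sylow subgroup. -/
structure Pt (P : Sylow 5 G) (x : G) : Prop where
  gen : Subgroup.zpowers x = (P : Subgroup G)
  ord : orderOf x = 5

theorem exists_pt (hc : Ctx G) (P : Sylow 5 G) : ∃ x : G, Pt P x := by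
  have h5 := order_five hc P
  haveI : IsCyclic (P : Subgroup G) := isCyclic_of_prime_card h5
  obtain ⟨x, hx⟩ := IsCyclic.exists_generator (α := (P : Subgroup G))
  have ho : orderOf (x : G) = 5 := by
    rw [Subgroup.orderOf_coe, orderOf_eq_card_of_forall_mem_zpowers hx, h5]
  refine ⟨x, Subgroup.eq_of_le_of_card_ge (by rw [Subgroup.zpowers_le]; exact x.2) ?_, ho⟩
  rw [Nat.card_zpowers, ho, h5]

variable {P : Sylow 5 G} {x : G}

theorem Pt.mem (hp : Pt P x) : x ∈ (P : Subgroup G) := hp.gen ▸ Subgroup.mem_zpowers x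

theorem Pt.pow_five (hp : Pt P x) : x ^ 5 = 1 := hp.ord ▸ pow_orderOf_eq_one x

theorem Pt.exists_pow (hp : Pt P x) {z : G} (hz : z ∈ (P : Subgroup G)) : ∃ n : ℕ, z = x ^ n := by
  rw [← hp.gen] at hz
  obtain ⟨n, hn⟩ := mem_powers_iff_mem_zpowers.2 hz
  exact ⟨n, hn.symm⟩

/-- The coordinates along the orbit of `Q`. -/
def pt (x : G) (Q : Sylow 5 G) (j : ZMod 5) : Sylow 5 G := x ^ j.val • Q

theorem Pt.pow_smul (hp : Pt P x) (Q : Sylow 5 G) (n : ℕ) : x ^ n • Q = pt x Q (n : ZMod 5) := by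
  have h := pow_mod_orderOf x n
  rw [hp.ord] at h
  rw [pt, ZMod.val_natCast, h]

theorem Pt.zero (x : G) (Q : Sylow 5 G) : pt x Q 0 = Q := by simp [pt]

theorem Pt.smul_pt (hp : Pt P x) (Q : Sylow 5 G) (n : ℕ) (j : ZMod 5) :
    x ^ n • pt x Q j = pt x Q ((n : ZMod 5) + j) := by
  rw [pt, smul_smul, ← pow_add, hp.pow_smul, Nat.cast_add, ZMod.natCast_zmod_val]

theorem Pt.fixed_pow (hp : Pt P x) (hc : Ctx G) {Q : Sylow 5 G} (hQ : Q ≠ P) {n : ℕ}
    (h : x ^ n • Q = Q) : (n : ZMod 5) = 0 := by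
  have hz : x ^ n ∈ (Q : Subgroup G) := by
    refine mem_of_fix (k := 1) ?_ h
    rw [← pow_mul, mul_comm, pow_mul, pow_one, hp.pow_five, one_pow]
  have hI := (inter_index hc hQ.symm).2.2
  rw [order_five hc P] at hI
  have hbot : (P : Subgroup G) ⊓ (Q : Subgroup G) = ⊥ :=
    Subgroup.card_eq_one.1 (by omega)
  have h1 : x ^ n = 1 := Subgroup.mem_bot.1 (hbot ▸ Subgroup.mem_inf.2 ⟨pow_mem hp.mem n, hz⟩)
  rw [ZMod.natCast_eq_zero_iff, ← hp.ord]
  exact orderOf_dvd_of_pow_eq_one h1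

theorem Pt.pt_injective (hp : Pt P x) (hc : Ctx G) {Q : Sylow 5 G} (hQ : Q ≠ P) :
    Function.Injective (pt x Q) := by
  intro a b hab
  have h := congrArg (fun S => x ^ (-b).val • S) hab
  simp only [hp.smul_pt, ZMod.natCast_zmod_val, neg_add_cancel, Pt.zero] at h
  have h2 : x ^ (-b + a).val • Q = Q := h
  have h3 := hp.fixed_pow hc hQ h2
  rw [ZMod.natCast_zmod_val] at h3
  rw [add_eq_zero_iff_eq_neg] at h3
  exact (neg_inj.1 h3).symm

theorem Pt.fix_unique (hp : Pt P x) (hc : Ctx G) {Q : Sylow 5 G} (h : x • Q = Q) : Q = P := by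
  by_contra hQ
  have h1 := hp.fixed_pow hc hQ (n := 1) (by rw [pow_one]; exact h)
  norm_num at h1

/-- The orbit space of `P`. -/
abbrev Orb (P : Sylow 5 G) := MulAction.orbitRel.Quotient ↥(P : Subgroup G) (Sylow 5 G)

/-- The class of a point. -/
abbrev cls (P Q : Sylow 5 G) : Orb P := Quotient.mk (MulAction.orbitRel ↥(P : Subgroup G) (Sylow 5 G)) Q

theorem Pt.cls_eq (hp : Pt P x) {Q R : Sylow 5 G} : cls P R = cls P Q ↔ ∃ j, R = pt x Q j := by
  constructor
  · intro h
    obtain ⟨⟨z, hz⟩, hzR⟩ : R ∈ MulAction.orbit ↥(P : Subgroup G) Q :=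
      MulAction.orbitRel_apply.1 (Quotient.exact h)
    obtain ⟨n, rfl⟩ := hp.exists_pow hz
    exact ⟨n, by rw [← hp.pow_smul]; exact hzR.symm⟩
  · rintro ⟨j, rfl⟩
    exact Quotient.sound (MulAction.orbitRel_apply.2 ⟨⟨x ^ j.val, pow_mem hp.mem _⟩, rfl⟩)

theorem Pt.cls_self (hp : Pt P x) {Q : Sylow 5 G} : cls P Q = cls P P ↔ Q = P := by
  constructor
  · intro h
    obtain ⟨j, rfl⟩ := hp.cls_eq.1 h
    exact fix_of_mem (pow_mem hp.mem _)
  · rintro rfl
    rfl

/-- The normaliser of `P`. -/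
abbrev Nrm (P : Sylow 5 G) : Subgroup G := Subgroup.normalizer ((P : Subgroup G) : Set G)

theorem orbit_smul {h : G} (hh : h ∈ Nrm P) {a b : Sylow 5 G}
    (hab : a ∈ MulAction.orbit ↥(P : Subgroup G) b) :
    h • a ∈ MulAction.orbit ↥(P : Subgroup G) (h • b) := by
  obtain ⟨⟨z, hz⟩, rfl⟩ := hab
  refine ⟨⟨h * z * h⁻¹, (Subgroup.mem_normalizer_iff.1 hh z).1 hz⟩, ?_⟩
  show (h * z * h⁻¹) • h • b = h • z • b
  rw [smul_smul, smul_smul, inv_mul_cancel_right]

/-- The action of the normaliser on the orbit space. -/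
noncomputable def sigma (P : Sylow 5 G) : ↥(Nrm P) →* Equiv.Perm (Orb P) where
  toFun h := Quotient.congr (MulAction.toPerm (h : G)) fun a b => by
    change (MulAction.orbitRel ↥(P : Subgroup G) (Sylow 5 G)).r a b ↔
      (MulAction.orbitRel ↥(P : Subgroup G) (Sylow 5 G)).r ((h : G) • a) ((h : G) • b)
    refine ⟨fun hab => orbit_smul h.2 hab, fun hab => ?_⟩
    have := orbit_smul (inv_mem h.2) hab
    rwa [inv_smul_smul, inv_smul_smul] at this
  map_one' := by
    ext o
    induction o using Quotient.inductionOn with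
    | _ a => exact congrArg (cls P) (one_smul G a)
  map_mul' g h := by
    ext o
    induction o using Quotient.inductionOn with
    | _ a => exact congrArg (cls P) (mul_smul (g : G) (h : G) a)

theorem sigma_cls (h : ↥(Nrm P)) (Q : Sylow 5 G) : sigma P h (cls P Q) = cls P ((h : G) • Q) := rfl

theorem Pt.conj_exp (hp : Pt P x) {h : G} (hh : h ∈ Nrm P) : ∃ e : ℕ, h * x * h⁻¹ = x ^ e :=
  hp.exists_pow ((Subgroup.mem_normalizer_iff.1 hh x).1 hp.mem)

theorem Pt.conj_pt (hp : Pt P x) {u : G} {e : ℕ} (he : u * x * u⁻¹ = x ^ e) {Q : Sylow 5 G}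
    {k : ZMod 5} (hk : u • Q = pt x Q k) (j : ZMod 5) :
    u • pt x Q j = pt x Q ((e : ZMod 5) * j + k) := by
  rw [pt, smul_smul, show u * x ^ j.val = x ^ (e * j.val) * u by
      rw [pow_mul, ← he, conj_pow, inv_mul_cancel_right], mul_smul, hk, hp.smul_pt, Nat.cast_mul,
    ZMod.natCast_zmod_val]

theorem Pt.commute_iff (hp : Pt P x) {u : G} {e : ℕ} (he : u * x * u⁻¹ = x ^ e) :
    Commute u x ↔ (e : ZMod 5) = 1 := by
  have h1 : x ^ e = x ↔ (e : ZMod 5) = ((1 : ℕ) : ZMod 5) := by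
    rw [ZMod.natCast_eq_natCast_iff, ← hp.ord, ← pow_eq_pow_iff_modEq, pow_one]
  rw [Nat.cast_one] at h1
  rw [← h1, ← he, mul_inv_eq_iff_eq_mul]
  rfl

/-- An element commuting with `x` and fixing every orbit is in `P`. -/
theorem Pt.mem_of_trivial (hp : Pt P x) (hc : Ctx G) {u : G} (hu : u ∈ Nrm P) (hcomm : Commute u x)
    (hs : sigma P ⟨u, hu⟩ = 1) : u ∈ (P : Subgroup G) := by
  have he : u * x * u⁻¹ = x ^ 1 := by rw [pow_one, hcomm.eq, mul_inv_cancel_right]
  refine mem_of_fix (k := 1) (hc.faith _ fun Q => ?_) (Sylow.smul_eq_iff_mem_normalizer.2 hu)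
  obtain ⟨k, hk⟩ := hp.cls_eq.1 (show cls P (u • Q) = cls P Q by
    have := congrArg (fun p : Equiv.Perm (Orb P) => p (cls P Q)) hs
    simpa [sigma_cls] using this)
  have hstep : ∀ n : ℕ, u ^ n • Q = pt x Q ((n : ZMod 5) * k) := by
    intro n
    induction n with
    | zero => simp [Pt.zero]
    | succ n ih =>
      rw [pow_succ', mul_smul, ih, hp.conj_pt he hk]
      congr 1
      push_cast
      ring
  rw [pow_one, hstep 5, show ((5 : ℕ) : ZMod 5) = 0 from rfl, zero_mul, Pt.zero]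

theorem Pt.sq_exp (hp : Pt P x) {u : G} {e : ℕ} (he : u * x * u⁻¹ = x ^ e) (hu : u ^ 2 = 1) :
    (e : ZMod 5) = 1 ∨ (e : ZMod 5) = -1 := by
  have h2 : x ^ (e * e) = x ^ 1 := by
    rw [pow_mul, ← he, conj_pow, ← he, pow_one]
    calc u * (u * x * u⁻¹) * u⁻¹ = u ^ 2 * x * (u ^ 2)⁻¹ := by
          rw [pow_two, mul_inv_rev]; simp only [mul_assoc]
      _ = x := by rw [hu, one_mul, inv_one, mul_one]
  rw [pow_eq_pow_iff_modEq, hp.ord, ← ZMod.natCast_eq_natCast_iff, Nat.cast_mul, Nat.cast_one] at h2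
  revert h2
  generalize (e : ZMod 5) = c
  revert c
  decide

/-- The number of points an involution fixes, through the orbits it fixes. -/
theorem Pt.fix_count (hp : Pt P x) (hc : Ctx G) [Fintype (Orb P)] [DecidableEq (Orb P)]
    (u : ↥(Nrm P)) (hu : (u : G) ^ 2 = 1) {c : ℕ}
    (hcu : (Commute (u : G) x ∧ c = 5) ∨ (¬ Commute (u : G) x ∧ c = 1)) :
    {Q : Sylow 5 G | (u : G) • Q = Q}.ncard + c =
      1 + c * (Finset.univ.filter fun o : Orb P => sigma P u o = o).card := by
  classical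
  have := Fintype.ofFinite (Sylow 5 G)
  obtain ⟨e, he⟩ := hp.conj_exp u.2
  set F := Finset.univ.filter fun Q : Sylow 5 G => (u : G) • Q = Q
  set T := Finset.univ.filter fun o : Orb P => sigma P u o = o
  have hF : {Q : Sylow 5 G | (u : G) • Q = Q}.ncard = F.card := by
    rw [← Set.ncard_coe_finset]
    congr 1
    ext Q
    simp [F]
  have huP : (u : G) • P = P := Sylow.smul_eq_iff_mem_normalizer.2 u.2
  have hmaps : ∀ Q ∈ F, cls P Q ∈ T := by
    intro Q hQ
    simp only [F, T, Finset.mem_filter, Finset.mem_univ, true_and] at hQ ⊢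
    rw [sigma_cls, hQ]
  have hPT : cls P P ∈ T := by simp [T, sigma_cls, huP]
  rw [hF, Finset.card_eq_sum_card_fiberwise hmaps, ← Finset.add_sum_erase T _ hPT]
  have h1 : (F.filter fun Q => cls P Q = cls P P).card = 1 := by
    rw [Finset.card_eq_one]
    refine ⟨P, ?_⟩
    ext Q
    simp only [F, Finset.mem_filter, Finset.mem_univ, true_and, Finset.mem_singleton, hp.cls_self]
    exact ⟨fun h => h.2, fun h => ⟨h ▸ huP, h⟩⟩
  rw [h1, Finset.sum_const_nat (m := c), Finset.card_erase_of_mem hPT]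
  · have : 0 < T.card := Finset.card_pos.2 ⟨_, hPT⟩
    obtain ⟨t, ht⟩ : ∃ t, T.card = t + 1 := ⟨T.card - 1, by omega⟩
    rw [ht]
    simp only [Nat.add_sub_cancel]
    ring
  intro o ho
  rw [Finset.mem_erase] at ho
  induction o using Quotient.inductionOn with
  | _ Q =>
  have hQ : Q ≠ P := fun h => ho.1 (hp.cls_self.2 h)
  obtain ⟨k, hk⟩ := hp.cls_eq.1 (show cls P ((u : G) • Q) = cls P Q by
    have := ho.2
    simp only [T, Finset.mem_filter, Finset.mem_univ, true_and] at this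
    exact this)
  have hcard : (F.filter fun R => cls P R = cls P Q).card =
      (Finset.univ.filter fun j : ZMod 5 => (e : ZMod 5) * j + k = j).card := by
    refine (Finset.card_bij (fun j _ => pt x Q j) ?_ ?_ ?_).symm
    · intro j hj
      simp only [F, Finset.mem_filter, Finset.mem_univ, true_and] at hj ⊢
      exact ⟨by rw [hp.conj_pt he hk, hj], hp.cls_eq.2 ⟨j, rfl⟩⟩
    · exact fun a _ b _ h => hp.pt_injective hc hQ h
    · intro R hR
      simp only [F, Finset.mem_filter, Finset.mem_univ, true_and] at hR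
      obtain ⟨j, rfl⟩ := hp.cls_eq.1 hR.2
      refine ⟨j, ?_, rfl⟩
      simp only [Finset.mem_filter, Finset.mem_univ, true_and]
      apply hp.pt_injective hc hQ
      rw [← hp.conj_pt he hk, hR.1]
  refine hcard.trans ?_
  have hse := hp.sq_exp he hu
  rcases hcu with ⟨hco, rfl⟩ | ⟨hco, rfl⟩
  · -- `u` centralises `P`, so fixes the orbit pointwise
    have he1 := (hp.commute_iff he).1 hco
    have huu : (u : G) • (u : G) • Q = Q := by rw [smul_smul, ← pow_two, hu, one_smul]
    rw [hk, hp.conj_pt he hk, he1] at huu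
    have hk0 : (1 : ZMod 5) * k + k = 0 := hp.pt_injective hc hQ (huu.trans (Pt.zero x Q).symm)
    have hk' : k = 0 := by
      revert hk0
      generalize k = a
      revert a
      decide
    rw [hk', he1]
    simp
  · have he1 : (e : ZMod 5) = -1 := hse.resolve_left fun h => hco ((hp.commute_iff he).2 h)
    rw [he1]
    generalize k = a
    revert a
    decide

theorem Pt.card_orb (hp : Pt P x) (hc : Ctx G) [Fintype (Orb P)] : Fintype.card (Orb P) = 5 := by
  classical
  have h := hp.fix_count hc 1 (by simp) (c := 5) (Or.inl ⟨Commute.one_left x, rfl⟩)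
  have h1 : {Q : Sylow 5 G | ((1 : ↥(Nrm P)) : G) • Q = Q} = Set.univ := by simp
  rw [h1, Set.ncard_univ, hc.n21] at h
  have h2 : (Finset.univ.filter fun o : Orb P => sigma P 1 o = o) = Finset.univ :=
    Finset.filter_true_of_mem fun o _ => by rw [map_one]; rfl
  rw [h2, Finset.card_univ] at h
  omega

/-- The bound on the normaliser. -/
theorem card_nrm (hc : Ctx G) (P : Sylow 5 G) :
    ∃ m, Nat.card ↥(Nrm P) = 5 * m ∧ ¬ 5 ∣ m ∧ m ∣ 96 := by
  classical
  obtain ⟨x, hp⟩ := exists_pt hc P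
  have := Fintype.ofFinite (Orb P)
  set C := Subgroup.centralizer ((P : Subgroup G) : Set G) with hC
  have hCN : C ≤ Nrm P := Subgroup.centralizer_le_normalizer _
  haveI hcyc : IsCyclic (P : Subgroup G) := isCyclic_of_prime_card (order_five hc P)
  have hrel : C.relIndex (Nrm P) ∣ 4 := by
    have key := Subgroup.card_dvd_of_injective _
      (QuotientGroup.kerLift_injective (P : Subgroup G).normalizerMonoidHom)
    rw [Subgroup.normalizerMonoidHom_ker, ← Subgroup.index, ← Subgroup.relIndex, hcyc.card_mulAut,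
      order_five hc P, Nat.totient_prime (Fact.out : Nat.Prime 5)] at key
    exact key
  set g := (sigma P).comp (Subgroup.inclusion hCN) with hg
  have hkerle : g.ker.map C.subtype ≤ (P : Subgroup G) := by
    rintro _ ⟨⟨u, hu⟩, hug, rfl⟩
    exact hp.mem_of_trivial hc (hCN hu) ((Subgroup.mem_centralizer_iff.1 hu x hp.mem).symm) hug
  have hk5 : Nat.card g.ker ∣ 5 := by
    rw [← order_five hc P, ← Subgroup.card_map_of_injective (K := g.ker) C.subtype_injective]
    exact Subgroup.card_dvd_of_le hkerle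
  have hrange : Nat.card g.range ∣ 120 := by
    have h := Subgroup.card_subgroup_dvd_card g.range
    rw [Nat.card_eq_fintype_card (α := Equiv.Perm (Orb P)), Fintype.card_perm, hp.card_orb hc] at h
    exact h
  have hCc : Nat.card C ∣ 5 * 120 := by
    rw [← g.ker.card_mul_index, Subgroup.index_ker]
    exact Nat.mul_dvd_mul hk5 hrange
  have hN : Nat.card ↥(Nrm P) ∣ 5 * 120 * 4 := by
    rw [← Subgroup.relIndex_bot_left (Nrm P), ← Subgroup.relIndex_mul_relIndex ⊥ C (Nrm P) bot_le hCN,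
      Subgroup.relIndex_bot_left]
    exact Nat.mul_dvd_mul hCc hrel
  obtain ⟨m, hm⟩ : 5 ∣ Nat.card ↥(Nrm P) := by
    rw [← order_five hc P]
    exact Subgroup.card_dvd_of_le Subgroup.le_normalizer
  have h5m : ¬ 5 ∣ m := by
    intro hd
    apply P.not_dvd_index
    have hG := card_eq hc P
    have hI := (P : Subgroup G).card_mul_index
    rw [order_five hc P, hG] at hI
    change Nat.card ↥(Nrm P) = 5 * m at hm
    have : (P : Subgroup G).index = 21 * m := by
      rw [hm] at hI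
      omega
    rw [this]
    exact hd.mul_left 21
  refine ⟨m, hm, h5m, ?_⟩
  rw [hm] at hN
  have h1 : m ∣ 5 * 96 := (Nat.mul_dvd_mul_iff_left (by norm_num : 0 < 5)).1 hN
  exact ((Fact.out : Nat.Prime 5).coprime_iff_not_dvd.2 h5m).symm.dvd_of_dvd_mul_left h1

end Cfsg.Agent.Fg24.TwentyOne
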