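import Mathlib
import Cfsg.Agent.Fg24.TwentyOne.Orbits

/-!
Groups with 21 Sylow 5-subgroups: the Sylow 7-normaliser forces eight to divide the order.
-/

set_option autoImplicit false

namespace Cfsg.Agent.Fg24.TwentyOne

open Cfsg.Agent.Fg24.TwentyTwo (fix_modEq)

variable {G : Type*} [Group G] [Finite G]

theorem fixed_pow_of_fixed {X : Type*} [MulAction G X] {z : G} {Q : X} (h : z • Q = Q) (n : ℕ) :
    z ^ n • Q = Q := by
  induction n with
  | zero => simp
  | succ n ih => rw [pow_succ, mul_smul, h, ih]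

theorem not_commute_five_seven (hc : Ctx G) {x y : G} (hx : orderOf x = 5) (hy : orderOf y = 7) :
    ¬ Commute x y := by
  intro hcomm
  haveI : Fact (Nat.Prime 7) := ⟨by norm_num⟩
  obtain ⟨P, hP⟩ := (show IsPGroup 5 (Subgroup.zpowers x) from
    IsPGroup.of_card (n := 1) (by rw [Nat.card_zpowers, hx, pow_one])).exists_le_sylow
  have hxP : x ∈ (P : Subgroup G) := hP (Subgroup.mem_zpowers x)
  have hp : Pt P x := ⟨Subgroup.eq_of_le_of_card_ge hP
    (by rw [Nat.card_zpowers, hx, order_five hc P]), hx⟩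
  set s := {Q : Sylow 5 G | y • Q = Q}
  have hinv : ∀ Q ∈ s, x • Q ∈ s := fun Q (hQ : y • Q = Q) => by
    show y • x • Q = x • Q
    rw [← mul_smul, ← hcomm.eq, mul_smul, hQ]
  have hPs : P ∈ s := by
    show y • P = P
    apply hp.fix_unique hc
    rw [← mul_smul, hcomm.eq, mul_smul, fix_of_mem hxP]
  have h5 := fix_modEq 5 x hp.pow_five s hinv
  rw [show {Q ∈ s | x • Q = Q} = {P} from Set.ext fun Q =>
    ⟨fun hQ => hp.fix_unique hc hQ.2, fun hQ => by
      rw [Set.mem_singleton_iff.1 hQ]; exact ⟨hPs, fix_of_mem hxP⟩⟩, Set.ncard_singleton] at h5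
  have h7 := fix_modEq_21 hc 7 y (hy ▸ pow_orderOf_eq_one y)
  have hle : s.ncard ≤ 21 := fix_le_21 hc y
  have h7' : 21 % 7 = s.ncard % 7 := h7
  have h5' : s.ncard % 5 = 1 % 5 := h5
  have : y = 1 := eq_one_of_fix_21 hc (show s.ncard = 21 by omega)
  rw [this, orderOf_one] at hy
  norm_num at hy

theorem seven_free (hc : Ctx G) {y : G} (hy : orderOf y = 7) (Q : Sylow 5 G) : y • Q ≠ Q := by
  intro hQ
  obtain ⟨x, hp⟩ := exists_pt hc Q
  obtain ⟨e, he⟩ := hp.conj_exp (Sylow.smul_eq_iff_mem_normalizer.1 hQ)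
  refine not_commute_five_seven hc hp.ord hy ((hp.commute_iff he).2 ?_).symm
  have hn : ∀ n : ℕ, y ^ n * x * (y ^ n)⁻¹ = x ^ e ^ n := by
    intro n
    induction n with
    | zero => simp
    | succ n ih =>
      rw [pow_succ', pow_succ', pow_mul, ← he, conj_pow, ← ih]
      simp only [mul_inv_rev, mul_assoc]
  have h7 := hn 7
  rw [← hy, pow_orderOf_eq_one, hy, one_mul, inv_one, mul_one] at h7
  have h := pow_eq_pow_iff_modEq.1 (show x ^ 1 = x ^ e ^ 7 by rw [pow_one]; exact h7)
  rw [hp.ord, ← ZMod.natCast_eq_natCast_iff, Nat.cast_one, Nat.cast_pow] at h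
  revert h
  generalize (e : ZMod 5) = c
  revert c
  decide

/-- Eight divides the group order. -/
theorem eight_dvd (hc : Ctx G) : 8 ∣ Nat.card G := by
  classical
  haveI : Fact (Nat.Prime 7) := ⟨by norm_num⟩
  have h7 : Nat.Prime 7 := Fact.out
  obtain ⟨P⟩ := (inferInstance : Nonempty (Sylow 5 G))
  obtain ⟨m, hm, h5m, hm96⟩ := card_nrm hc P
  have hG : Nat.card G = 21 * (5 * m) := by rw [card_eq hc P]; exact congrArg _ hm
  have hmpos : 0 < m := Nat.pos_of_dvd_of_pos hm96 (by norm_num)
  obtain ⟨E⟩ := (inferInstance : Nonempty (Sylow 7 G))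
  have h7m : ¬ 7 ∣ 5 * m := fun h =>
    absurd (((Nat.Prime.dvd_mul h7).1 h).resolve_left (by norm_num) |>.trans hm96) (by norm_num)
  have hE : Nat.card (E : Subgroup G) = 7 := by
    have hf : (Nat.card G).factorization 7 = 1 := by
      rw [hG, Nat.factorization_mul (by norm_num) (by omega), Finsupp.coe_add, Pi.add_apply,
        Nat.factorization_eq_zero_of_not_dvd h7m, add_zero, show (21 : ℕ) = 7 * 3 from rfl,
        Nat.factorization_mul (by norm_num) (by norm_num), Finsupp.coe_add, Pi.add_apply,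
        h7.factorization_self, Nat.factorization_eq_zero_of_not_dvd (by norm_num)]
    rw [Sylow.card_eq_multiplicity, hf, pow_one]
  haveI hEc : IsCyclic (E : Subgroup G) := isCyclic_of_prime_card hE
  obtain ⟨y, hyE, hyo⟩ : ∃ y ∈ (E : Subgroup G), orderOf y = 7 := by
    obtain ⟨y, hy⟩ := IsCyclic.exists_generator (α := (E : Subgroup G))
    exact ⟨y, y.2, by rw [Subgroup.orderOf_coe, orderOf_eq_card_of_forall_mem_zpowers hy, hE]⟩
  set C := Subgroup.centralizer ((E : Subgroup G) : Set G) with hC
  set N := Subgroup.normalizer ((E : Subgroup G) : Set G) with hN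
  have hCN : C ≤ N := Subgroup.centralizer_le_normalizer _
  have hrel : C.relIndex N ∣ 6 := by
    have key := Subgroup.card_dvd_of_injective _
      (QuotientGroup.kerLift_injective (E : Subgroup G).normalizerMonoidHom)
    rw [Subgroup.normalizerMonoidHom_ker, ← Subgroup.index, ← Subgroup.relIndex, hEc.card_mulAut,
      hE, Nat.totient_prime h7] at key
    exact key
  have hNC : Nat.card N = Nat.card C * C.relIndex N := by
    rw [← Subgroup.relIndex_bot_left N, ← Subgroup.relIndex_mul_relIndex ⊥ C N bot_le hCN,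
      Subgroup.relIndex_bot_left]
  have h5C : ¬ 5 ∣ Nat.card C := by
    intro h5
    obtain ⟨⟨x, hxC⟩, hx⟩ := exists_prime_orderOf_dvd_card' (G := C) 5 h5
    rw [Subgroup.orderOf_mk] at hx
    exact not_commute_five_seven hc hx hyo (Subgroup.mem_centralizer_iff.1 hxC y hyE).symm
  have h5N : ¬ 5 ∣ Nat.card N := by
    rw [hNC]
    intro h5
    rcases (Nat.Prime.dvd_mul (by norm_num)).1 h5 with h | h
    · exact h5C h
    · exact absurd (h.trans hrel) (by norm_num)
  have h2C : ¬ 2 ∣ Nat.card C := by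
    intro h2
    haveI : Fact (Nat.Prime 2) := ⟨Nat.prime_two⟩
    obtain ⟨⟨u, huC⟩, hu⟩ := exists_prime_orderOf_dvd_card' (G := C) 2 h2
    rw [Subgroup.orderOf_mk] at hu
    have hu2 : u ^ 2 = 1 := hu ▸ pow_orderOf_eq_one u
    have hcomm : Commute y u := Subgroup.mem_centralizer_iff.1 huC y hyE
    set s := {Q : Sylow 5 G | u • Q = Q}
    have hinv : ∀ Q ∈ s, y • Q ∈ s := fun Q (hQ : u • Q = Q) => by
      show u • y • Q = y • Q
      rw [← mul_smul, ← hcomm.eq, mul_smul, hQ]
    have h7s := fix_modEq 7 y (hyo ▸ pow_orderOf_eq_one y) s hinv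
    rw [show {Q ∈ s | y • Q = Q} = (∅ : Set (Sylow 5 G)) from
      Set.eq_empty_iff_forall_notMem.2 fun Q hQ => seven_free hc hyo Q hQ.2, Set.ncard_empty] at h7s
    have hs2 := fix_modEq_21 hc 2 u hu2
    have hle : s.ncard ≤ 21 := fix_le_21 hc u
    have h7' : s.ncard % 7 = 0 % 7 := h7s
    have h2' : 21 % 2 = s.ncard % 2 := hs2
    by_cases h21 : s.ncard = 21
    · rw [eq_one_of_fix_21 hc h21, orderOf_one] at hu
      norm_num at hu
    · have h4 : 4 ∣ 21 - s.ncard := involution_moved hc hu2
      omega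
  -- the number of Sylow 7-subgroups
  have hn : Nat.card (Sylow 7 G) * Nat.card N = 21 * (5 * m) := by
    rw [Sylow.card_eq_index_normalizer E, ← hG]
    exact Subgroup.index_mul_card N
  have h7N : 7 ∣ Nat.card N := by
    rw [← hE]
    exact Subgroup.card_dvd_of_le Subgroup.le_normalizer
  obtain ⟨k, hk⟩ := h7N
  have hn2 : Nat.card (Sylow 7 G) * k = 3 * (5 * m) := by
    rw [hk] at hn
    have : 7 * (Nat.card (Sylow 7 G) * k) = 7 * (3 * (5 * m)) := by linarith
    exact Nat.eq_of_mul_eq_mul_left (by norm_num) this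
  obtain ⟨j, hj⟩ : 5 ∣ Nat.card (Sylow 7 G) := by
    have h5 : 5 ∣ Nat.card (Sylow 7 G) * k := by rw [hn2]; exact dvd_mul_of_dvd_right (dvd_mul_right 5 m) 3
    rcases (Nat.Prime.dvd_mul (by norm_num)).1 h5 with h | h
    · exact h
    · exact absurd (by rw [hk]; exact h.mul_left 7) h5N
  have hjm : j * k = 3 * m := by
    rw [hj] at hn2
    have : 5 * (j * k) = 5 * (3 * m) := by linarith
    exact Nat.eq_of_mul_eq_mul_left (by norm_num) this
  have hjd : j ∣ 288 := (Dvd.intro k hjm).trans (Nat.mul_dvd_mul_left 3 hm96)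
  have hj7 : j % 7 = 3 := by
    have h := card_sylow_modEq_one 7 G
    rw [hj] at h
    have h' : 5 * j % 7 = 1 % 7 := h
    omega
  have hcases : j = 3 ∨ j = 24 := by
    have hmem : j ∈ Nat.divisors 288 := Nat.mem_divisors.2 ⟨hjd, by norm_num⟩
    revert hmem hj7
    generalize j = a
    intro ha hmem
    rw [show Nat.divisors 288 =
      {1, 2, 3, 4, 6, 8, 9, 12, 16, 18, 24, 32, 36, 48, 72, 96, 144, 288} from by decide] at hmem
    simp only [Finset.mem_insert, Finset.mem_singleton] at hmem
    omega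
  rcases hcases with rfl | rfl
  swap
  · rw [hG]
    refine Dvd.dvd.mul_left (Dvd.dvd.mul_left ?_ 5) 21
    have h8 : 8 ∣ 3 * m := by rw [← hjm]; exact Dvd.dvd.mul_right (by norm_num) k
    exact (Nat.Coprime.dvd_of_dvd_mul_left (by norm_num : Nat.Coprime 8 3) h8)
  exfalso
  have hkm : k = m := Nat.eq_of_mul_eq_mul_left (by norm_num : 0 < 3) hjm
  subst hkm
  -- then four does not divide the order
  have h4 : ¬ 4 ∣ Nat.card G := by
    rw [hG]
    intro h
    have h4m : 4 ∣ k := by omega
    have hN4 : 4 ∣ Nat.card N := by rw [hk]; exact h4m.mul_left 7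
    rw [hNC] at hN4
    have h4r : 4 ∣ C.relIndex N := (Nat.Coprime.pow_left 2
      (Nat.prime_two.coprime_iff_not_dvd.2 h2C)).dvd_of_dvd_mul_left hN4
    exact absurd (h4r.trans hrel) (by norm_num)
  by_cases h2 : 2 ∣ Nat.card G
  · haveI : Fact (Nat.Prime 2) := ⟨Nat.prime_two⟩
    have := Fintype.ofFinite G
    obtain ⟨t, ht⟩ := exists_prime_orderOf_dvd_card' (G := G) 2 h2
    set T := MulAction.toPermHom G G t with hT
    have hmove : ∀ a, T a ≠ a := fun a h => by
      have h' : t * a = a := h
      rw [mul_eq_right.1 h', orderOf_one] at ht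
      norm_num at ht
    have ho : orderOf T = 2 := by
      refine orderOf_eq_prime (by rw [hT, ← map_pow, ← ht, pow_orderOf_eq_one, map_one]) ?_
      intro h
      exact hmove 1 (by rw [h]; rfl)
    obtain ⟨i, hi⟩ := Equiv.Perm.cycleType_prime_order (σ := T) (by rw [ho]; exact Nat.prime_two)
    rw [ho] at hi
    have hsum := T.sum_cycleType
    rw [hi, Multiset.sum_replicate, smul_eq_mul,
      show T.support = Finset.univ from Finset.eq_univ_of_forall fun a =>
        Equiv.Perm.mem_support.2 (hmove a), Finset.card_univ, ← Nat.card_eq_fintype_card] at hsum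
    have hs : Equiv.Perm.sign T = 1 := hom_trivial hc
      (by rw [Nat.card_eq_fintype_card, Fintype.card_units_int]; norm_num)
      (Equiv.Perm.sign.comp (MulAction.toPermHom G G)) t
    rw [Equiv.Perm.sign_of_cycleType, hi, Multiset.sum_replicate, Multiset.card_replicate,
      smul_eq_mul] at hs
    have hodd : Odd ((i + 1) * 2 + (i + 1)) := by
      rw [Nat.odd_iff]
      omega
    rw [hodd.neg_one_pow] at hs
    exact absurd hs (by decide)
  · -- a normal 5-complement
    haveI hPc : IsCyclic (P : Subgroup G) := isCyclic_of_prime_card (order_five hc P)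
    haveI : IsMulCommutative (P : Subgroup G) := inferInstance
    have hPN : Subgroup.normalizer ((P : Subgroup G) : Set G) ≤
        Subgroup.centralizer ((P : Subgroup G) : Set G) := by
      rw [← Subgroup.relIndex_eq_one]
      have key := Subgroup.card_dvd_of_injective _
        (QuotientGroup.kerLift_injective (P : Subgroup G).normalizerMonoidHom)
      rw [Subgroup.normalizerMonoidHom_ker, ← Subgroup.index, ← Subgroup.relIndex, hPc.card_mulAut,
        order_five hc P, Nat.totient_prime (Fact.out : Nat.Prime 5)] at key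
      set r := (Subgroup.centralizer ((P : Subgroup G) : Set G)).relIndex
        (Subgroup.normalizer ((P : Subgroup G) : Set G)) with hr
      have hr' : r ∣ Nat.card G :=
        (Subgroup.relIndex_dvd_card _ _).trans (Subgroup.card_subgroup_dvd_card _)
      have hr4 : r ∣ 2 ^ 2 := key
      obtain ⟨i, hi, hri⟩ := (Nat.dvd_prime_pow Nat.prime_two).1 hr4
      rcases Nat.eq_zero_or_pos i with rfl | hi0
      · simpa using hri
      · exact absurd ((dvd_pow_self 2 hi0.ne').trans (hri ▸ hr')) h2
    let f := MonoidHom.transferSylow P hPN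
    have hcompl := MonoidHom.ker_transferSylow_isComplement' P hPN
    have hEK : ∀ n ∈ N, f n = 1 := by
      intro n hn
      rw [← orderOf_eq_one_iff]
      refine Nat.eq_one_of_dvd_coprimes
        ((Fact.out : Nat.Prime 5).coprime_iff_not_dvd.2 h5N).symm
        ((orderOf_map_dvd f n).trans (Subgroup.orderOf_dvd_natCard N hn)) ?_
      have := orderOf_dvd_natCard (f n)
      rwa [order_five hc P] at this
    -- Frattini: the kernel contains `E`, so with `N` it is everything
    have hEle : (E : Subgroup G) ≤ f.ker := fun z hz =>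
      MonoidHom.mem_ker.2 (hEK z (Subgroup.le_normalizer hz))
    have hfr : N ⊔ f.ker = ⊤ := Sylow.normalizer_sup_eq_top' E hEle
    have hker : f.ker = ⊤ := top_le_iff.1 (hfr ▸ sup_le (fun z hz => MonoidHom.mem_ker.2 (hEK z hz)) le_rfl)
    have := hcompl.card_mul_card
    rw [show (MonoidHom.transferSylow P hPN).ker = ⊤ from hker, Subgroup.card_top, order_five hc P] at this
    have hpos := Nat.card_pos (α := G)
    omega

end Cfsg.Agent.Fg24.TwentyOne
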