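import Mathlib
import Cfsg.Agent.Fg24.TwentyOne.Seven

/-!
Groups with 21 Sylow 5-subgroups: the contradiction from the involutions in a point stabiliser.
-/

set_option autoImplicit false

namespace Cfsg.Agent.Fg24.TwentyOne

open Cfsg.Agent.Fg24.TwentyTwo (fix_modEq)

variable {G : Type*} [Group G] [Finite G] {P : Sylow 5 G} {x : G}

/-- No involution fixes exactly five points. -/
theorem Pt.fix_ne_five (hp : Pt P x) (hc : Ctx G) {z : G} (hz : z ∈ Nrm P) (hz2 : z ^ 2 = 1)
    (hco : ¬ Commute z x) : {Q : Sylow 5 G | z • Q = Q}.ncard ≠ 5 := by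
  classical
  intro h5
  have := Fintype.ofFinite (Sylow 5 G)
  have := Fintype.ofFinite G
  have := Fintype.ofFinite (Orb P)
  -- the conjugates of `z`, all fixing five points
  set K := Finset.univ.filter fun y : G => IsConj z y with hK
  have hKfix : ∀ y ∈ K, {Q : Sylow 5 G | y • Q = Q}.ncard = 5 ∧ y ^ 2 = 1 := by
    intro y hy
    obtain ⟨g, rfl⟩ := isConj_iff.1 (Finset.mem_filter.1 hy).2
    refine ⟨?_, by rw [conj_pow, hz2, mul_one, mul_inv_cancel]⟩
    refine Eq.trans ?_ h5
    rw [← Set.ncard_image_of_injective {Q : Sylow 5 G | z • Q = Q} (MulAction.injective g)]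
    congr 1
    ext Q
    constructor
    · intro hQ
      refine ⟨g⁻¹ • Q, ?_, smul_inv_smul g Q⟩
      show z • g⁻¹ • Q = g⁻¹ • Q
      conv_rhs => rw [← (show (g * z * g⁻¹) • Q = Q from hQ)]
      rw [mul_smul, mul_smul, inv_smul_smul]
    · rintro ⟨R, hR, rfl⟩
      show (g * z * g⁻¹) • g • R = g • R
      rw [mul_smul, mul_smul, inv_smul_smul, (show z • R = R from hR)]
  -- five of them fix `P`
  have hfixed : (K.filter fun y => y • P = P).card = 5 := by
    obtain ⟨e, he⟩ := hp.conj_exp hz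
    have he1 : (e : ZMod 5) = -1 :=
      (hp.sq_exp he hz2).resolve_left fun h => hco ((hp.commute_iff he).2 h)
    have hzx : ∀ n : ℕ, z * x ^ n * z⁻¹ = (x ^ n)⁻¹ := by
      intro n
      rw [← conj_pow, he, ← pow_mul]
      refine eq_inv_of_mul_eq_one_left ?_
      rw [← pow_add, ← orderOf_dvd_iff_pow_eq_one, hp.ord, ← ZMod.natCast_eq_zero_iff, Nat.cast_add,
        Nat.cast_mul, he1, neg_one_mul, neg_add_cancel]
    have hzfix : z • P = P := Sylow.smul_eq_iff_mem_normalizer.2 hz
    have hzs : sigma P ⟨z, hz⟩ = 1 := by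
      have h := hp.fix_count hc ⟨z, hz⟩ hz2 (c := 1) (Or.inr ⟨hco, rfl⟩)
      simp only [h5, one_mul] at h
      have hu : (Finset.univ.filter fun o : Orb P => sigma P ⟨z, hz⟩ o = o) = Finset.univ :=
        Finset.eq_univ_of_card _ (by rw [hp.card_orb hc]; omega)
      refine Equiv.ext fun o => ?_
      have := (hu.symm ▸ Finset.mem_univ o :
        o ∈ Finset.univ.filter fun o : Orb P => sigma P ⟨z, hz⟩ o = o)
      simpa using this
    have heq : (K.filter fun y => y • P = P) =
        (Finset.range 5).image fun n => x ^ n * z := by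
      ext y
      simp only [Finset.mem_filter, Finset.mem_image, Finset.mem_range]
      constructor
      · rintro ⟨hy, hyP⟩
        obtain ⟨hy5, hy2⟩ := hKfix y hy
        have hyN : y ∈ Nrm P := Sylow.smul_eq_iff_mem_normalizer.1 hyP
        have hyco : ¬ Commute y x := fun hco' => by
          have h := hp.fix_count hc ⟨y, hyN⟩ hy2 (c := 5) (Or.inl ⟨hco', rfl⟩)
          simp only [hy5] at h
          omega
        have hys : sigma P ⟨y, hyN⟩ = 1 := by
          have h := hp.fix_count hc ⟨y, hyN⟩ hy2 (c := 1) (Or.inr ⟨hyco, rfl⟩)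
          simp only [hy5, one_mul] at h
          have hu : (Finset.univ.filter fun o : Orb P => sigma P ⟨y, hyN⟩ o = o) = Finset.univ :=
            Finset.eq_univ_of_card _ (by rw [hp.card_orb hc]; omega)
          refine Equiv.ext fun o => ?_
          have := (hu.symm ▸ Finset.mem_univ o :
            o ∈ Finset.univ.filter fun o : Orb P => sigma P ⟨y, hyN⟩ o = o)
          simpa using this
        obtain ⟨e', he'⟩ := hp.conj_exp hyN
        have he'1 : (e' : ZMod 5) = -1 :=
          (hp.sq_exp he' hy2).resolve_left fun h => hyco ((hp.commute_iff he').2 h)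
        have hcomm : Commute (y * z) x := by
          refine (hp.commute_iff (u := y * z) (e := e' * e) ?_).2 ?_
          · rw [pow_mul, ← he', conj_pow, ← he]
            simp only [mul_inv_rev, mul_assoc]
          · push_cast
            rw [he'1, he1]
            ring
        have hmem := hp.mem_of_trivial hc (mul_mem hyN hz) hcomm
          (by rw [show (⟨y * z, mul_mem hyN hz⟩ : ↥(Nrm P)) = ⟨y, hyN⟩ * ⟨z, hz⟩ from rfl,
            map_mul, hys, hzs, one_mul])
        obtain ⟨n, hn⟩ := hp.exists_pow hmem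
        refine ⟨n % 5, Nat.mod_lt _ (by norm_num), ?_⟩
        have hmod := pow_mod_orderOf x n
        rw [hp.ord] at hmod
        rw [hmod, ← hn, mul_assoc, ← pow_two, hz2, mul_one]
      · rintro ⟨n, -, rfl⟩
        refine ⟨Finset.mem_filter.2 ⟨Finset.mem_univ _, isConj_iff.2 ⟨x ^ (3 * n), ?_⟩⟩, ?_⟩
        · have h1 : z * (x ^ (3 * n))⁻¹ = x ^ (3 * n) * z := by
            rw [← hzx, ← mul_assoc, ← mul_assoc, ← pow_two, hz2, one_mul,
              inv_eq_of_mul_eq_one_right (show z * z = 1 by rw [← pow_two, hz2])]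
          rw [mul_assoc, h1, ← mul_assoc, ← pow_add]
          congr 1
          rw [pow_eq_pow_iff_modEq, hp.ord, Nat.ModEq]
          omega
        · rw [mul_smul, hzfix, fix_of_mem (pow_mem hp.mem n)]
    rw [heq, Finset.card_image_of_injOn, Finset.card_range]
    intro a ha b hb hab
    simp only [Finset.coe_range, Set.mem_Iio] at ha hb
    have h := pow_eq_pow_iff_modEq.1 (mul_right_cancel (show x ^ a * z = x ^ b * z from hab))
    rw [hp.ord, Nat.ModEq, Nat.mod_eq_of_lt ha, Nat.mod_eq_of_lt hb] at h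
    exact h
  -- so there are 21 of them
  have hall : ∀ Q : Sylow 5 G, (K.filter fun y => y • Q = Q).card = 5 := by
    intro Q
    obtain ⟨g, rfl⟩ := MulAction.exists_smul_eq G P Q
    refine Eq.trans ?_ hfixed
    refine (Finset.card_bij (fun y _ => g * y * g⁻¹) ?_ ?_ ?_).symm
    · intro y hy
      simp only [hK, Finset.mem_filter, Finset.mem_univ, true_and] at hy ⊢
      refine ⟨hy.1.trans (isConj_iff.2 ⟨g, rfl⟩), ?_⟩
      rw [mul_smul, mul_smul, inv_smul_smul, hy.2]
    · intro a _ b _ h
      exact mul_left_cancel (mul_right_cancel h)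
    · intro y hy
      simp only [hK, Finset.mem_filter, Finset.mem_univ, true_and] at hy
      refine ⟨g⁻¹ * y * g, ?_, by simp [mul_assoc]⟩
      simp only [hK, Finset.mem_filter, Finset.mem_univ, true_and]
      refine ⟨hy.1.trans (isConj_iff.2 ⟨g⁻¹, by simp⟩), ?_⟩
      rw [mul_smul, mul_smul, hy.2, inv_smul_smul]
  have hK21 : K.card = 21 := by
    have h := Finset.sum_card_bipartiteAbove_eq_sum_card_bipartiteBelow
      (s := K) (t := (Finset.univ : Finset (Sylow 5 G))) (fun y Q => y • Q = Q)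
    rw [Finset.sum_const_nat (m := 5), Finset.sum_const_nat (m := 5), Finset.card_univ,
      ← Nat.card_eq_fintype_card, hc.n21] at h
    · omega
    · intro Q _
      exact hall Q
    · intro y hy
      refine Eq.trans ?_ (hKfix y hy).1
      rw [← Set.ncard_coe_finset]
      congr 1
      ext Q
      simp [Finset.mem_bipartiteAbove]
  -- but then an element of order five commutes with `z`
  have hcent : 5 ∣ Nat.card (Subgroup.centralizer ({z} : Set G)) := by
    have horb : (MulAction.orbit (ConjAct G) z).ncard = 21 := by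
      rw [← hK21, ← Set.ncard_coe_finset]
      congr 1
      ext y
      simp only [hK, ConjAct.mem_orbit_conjAct, Finset.coe_filter, Finset.mem_univ, true_and,
        Set.mem_setOf_eq]
      exact isConj_comm
    have hidx : (MulAction.stabilizer (ConjAct G) z).index = 21 := by
      rw [MulAction.index_stabilizer, horb]
    have hmul := (MulAction.stabilizer (ConjAct G) z).index_mul_card
    rw [hidx] at hmul
    have hGc : Nat.card (ConjAct G) = Nat.card G := Nat.card_congr ConjAct.ofConjAct.toEquiv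
    rw [hGc] at hmul
    have h5G : 5 ∣ Nat.card G := by
      rw [← order_five hc P]; exact Subgroup.card_subgroup_dvd_card _
    rw [← hmul] at h5G
    have := ((Fact.out : Nat.Prime 5).dvd_mul.1 h5G).resolve_left (by norm_num)
    convert this using 1
    refine Nat.card_congr (Equiv.subtypeEquiv ConjAct.toConjAct.toEquiv fun a => ?_)
    rw [Subgroup.mem_centralizer_singleton_iff]
    constructor
    · intro h
      show ConjAct.toConjAct a • z = z
      rw [ConjAct.toConjAct_smul, h, mul_inv_cancel_right]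
    · intro h
      have h' : a * z * a⁻¹ = z := by
        rw [← ConjAct.toConjAct_smul]; exact h
      exact mul_inv_eq_iff_eq_mul.1 h'
  obtain ⟨⟨y, hyC⟩, hy⟩ := exists_prime_orderOf_dvd_card' 5 hcent
  rw [Subgroup.orderOf_mk] at hy
  have hcomm : Commute y z := Subgroup.mem_centralizer_singleton_iff.1 hyC
  obtain ⟨R, hR⟩ := (show IsPGroup 5 (Subgroup.zpowers y) from
    IsPGroup.of_card (n := 1) (by rw [Nat.card_zpowers, hy, pow_one])).exists_le_sylow
  have hyR : y ∈ (R : Subgroup G) := hR (Subgroup.mem_zpowers y)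
  have hq : Pt R y := ⟨Subgroup.eq_of_le_of_card_ge hR
    (by rw [Nat.card_zpowers, hy, order_five hc R]), hy⟩
  set s := {Q : Sylow 5 G | z • Q = Q}
  have hinv : ∀ Q ∈ s, y • Q ∈ s := fun Q (hQ : z • Q = Q) => by
    show z • y • Q = y • Q
    rw [← mul_smul, ← hcomm.eq, mul_smul, hQ]
  have hRs : R ∈ s := by
    show z • R = R
    apply hq.fix_unique hc
    rw [← mul_smul, hcomm.eq, mul_smul, fix_of_mem hyR]
  have hmod := fix_modEq 5 y hq.pow_five s hinv
  rw [show {Q ∈ s | y • Q = Q} = {R} from Set.ext fun Q =>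
    ⟨fun hQ => hq.fix_unique hc hQ.2, fun hQ => by
      rw [Set.mem_singleton_iff.1 hQ]; exact ⟨hRs, fix_of_mem hyR⟩⟩, Set.ncard_singleton,
    show s.ncard = 5 from h5] at hmod
  exact absurd hmod (by decide)

theorem false_of_ctx (hc : Ctx G) : False := by
  classical
  haveI : Fact (Nat.Prime 2) := ⟨Nat.prime_two⟩
  obtain ⟨P⟩ := (inferInstance : Nonempty (Sylow 5 G))
  obtain ⟨x, hp⟩ := exists_pt hc P
  have := Fintype.ofFinite (Orb P)
  obtain ⟨S⟩ := (inferInstance : Nonempty (Sylow 2 ↥(Nrm P)))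
  -- `S` acts faithfully on the orbits
  set φ := (sigma P).comp (S : Subgroup ↥(Nrm P)).subtype with hφ
  have hinj : Function.Injective φ := by
    rw [← MonoidHom.ker_eq_bot_iff]
    by_contra hne
    have hker2 : IsPGroup 2 φ.ker := S.isPGroup'.to_subgroup φ.ker
    obtain ⟨n, hn⟩ := IsPGroup.iff_card.1 hker2
    have h1 : 2 ∣ Nat.card φ.ker := by
      rw [hn]
      refine dvd_pow_self 2 ?_
      rintro rfl
      exact hne (Subgroup.card_eq_one.1 (by rw [hn, pow_zero]))
    obtain ⟨⟨⟨⟨z, hz⟩, hzS⟩, hzker⟩, ho⟩ := exists_prime_orderOf_dvd_card' 2 h1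
    rw [Subgroup.orderOf_mk, Subgroup.orderOf_mk, Subgroup.orderOf_mk] at ho
    have hz2 : z ^ 2 = 1 := ho ▸ pow_orderOf_eq_one z
    have hs : sigma P ⟨z, hz⟩ = 1 := hzker
    have hfull : (Finset.univ.filter fun o : Orb P => sigma P ⟨z, hz⟩ o = o).card = 5 := by
      rw [Finset.filter_true_of_mem fun o _ => by rw [hs]; rfl, Finset.card_univ, hp.card_orb hc]
    by_cases hco : Commute z x
    · have h := hp.fix_count hc ⟨z, hz⟩ hz2 (c := 5) (Or.inl ⟨hco, rfl⟩)
      rw [hfull] at h
      have h21 : {Q : Sylow 5 G | z • Q = Q}.ncard = 21 := by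
        change {Q : Sylow 5 G | z • Q = Q}.ncard + 5 = 1 + 5 * 5 at h
        omega
      rw [eq_one_of_fix_21 hc h21, orderOf_one] at ho
      norm_num at ho
    · have h := hp.fix_count hc ⟨z, hz⟩ hz2 (c := 1) (Or.inr ⟨hco, rfl⟩)
      rw [hfull] at h
      apply hp.fix_ne_five hc hz hz2 hco
      change {Q : Sylow 5 G | z • Q = Q}.ncard + 1 = 1 + 1 * 5 at h
      omega
  -- the image is a Sylow 2-subgroup, so has a transposition
  have hN8 : 8 ∣ Nat.card ↥(Nrm P) := by
    have h := eight_dvd hc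
    rw [card_eq hc P] at h
    exact (Nat.Coprime.dvd_of_dvd_mul_left (by norm_num : Nat.Coprime 8 21) h)
  have hS8 : 8 ∣ Nat.card (S : Subgroup ↥(Nrm P)) :=
    S.pow_dvd_card_of_pow_dvd_card (n := 3) hN8
  have hperm : Nat.card (Equiv.Perm (Orb P)) = 120 := by
    rw [Nat.card_eq_fintype_card, Fintype.card_perm, hp.card_orb hc]
    rfl
  have hcard : Nat.card φ.range = Nat.card (S : Subgroup ↥(Nrm P)) :=
    Nat.card_congr (MonoidHom.ofInjective hinj).symm.toEquiv
  have hr8 : Nat.card φ.range = 8 := by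
    obtain ⟨n, hn⟩ := IsPGroup.iff_card.1 S.isPGroup'
    have h120 : 2 ^ n ∣ 120 := by
      rw [← hn, ← hcard, ← hperm]; exact Subgroup.card_subgroup_dvd_card _
    have h3 : 2 ^ 3 ∣ 2 ^ n := by rw [← hn]; exact hS8
    have hn3 := (Nat.pow_dvd_pow_iff_le_right (by norm_num : 1 < 2)).1 h3
    have : n ≤ 3 := by
      by_contra hlt
      push Not at hlt
      have := (pow_dvd_pow 2 hlt).trans h120
      norm_num at this
    rw [hcard, hn, show n = 3 by omega]
    rfl
  haveI : Nontrivial (Orb P) := Fintype.one_lt_card_iff_nontrivial.1 (by rw [hp.card_orb hc]; norm_num)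
  obtain ⟨a, b, hab⟩ := exists_pair_ne (Orb P)
  have h120 : (Nat.card (Equiv.Perm (Orb P))).factorization 2 = 3 := by
    rw [hperm, show (120 : ℕ) = 2 ^ 3 * 15 from rfl, Nat.factorization_mul (by norm_num) (by norm_num),
      Finsupp.coe_add, Pi.add_apply, Nat.prime_two.factorization_pow, Finsupp.single_eq_same,
      Nat.factorization_eq_zero_of_not_dvd (by norm_num), add_zero]
  let T : Sylow 2 (Equiv.Perm (Orb P)) := Sylow.ofCard φ.range (by rw [hr8, h120]; rfl)
  obtain ⟨T', hT'⟩ := (show IsPGroup 2 (Subgroup.zpowers (Equiv.swap a b)) from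
    IsPGroup.of_card (n := 1) (by
      rw [Nat.card_zpowers, pow_one]
      exact orderOf_eq_prime (by rw [pow_two, Equiv.swap_mul_self]) fun h =>
        hab (show b = a by simpa using congrArg (fun p : Equiv.Perm (Orb P) => p a) h).symm)).exists_le_sylow
  obtain ⟨g, rfl⟩ := MulAction.exists_smul_eq (Equiv.Perm (Orb P)) T T'
  have hswap : Equiv.swap (g⁻¹ a) (g⁻¹ b) ∈ φ.range := by
    have h := hT' (Subgroup.mem_zpowers (Equiv.swap a b))
    rw [Sylow.coe_subgroup_smul, Subgroup.mem_pointwise_smul_iff_inv_smul_mem] at h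
    have h' : g⁻¹ * Equiv.swap a b * g ∈ φ.range := by
      simpa [MulAut.smul_def, T] using h
    rwa [Equiv.swap_apply_apply, inv_inv]
  obtain ⟨⟨⟨u, hu⟩, huS⟩, huφ⟩ := hswap
  have hu2 : u ^ 2 = 1 := by
    have : (⟨⟨u, hu⟩, huS⟩ : (S : Subgroup ↥(Nrm P))) ^ 2 = 1 := by
      apply hinj
      rw [map_pow, huφ, map_one, pow_two, Equiv.swap_mul_self]
    simpa using congrArg (fun s : (S : Subgroup ↥(Nrm P)) => ((s : ↥(Nrm P)) : G)) this
  have hab' : g⁻¹ a ≠ g⁻¹ b := fun h => hab (g⁻¹.injective h)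
  have h3 : (Finset.univ.filter fun o : Orb P => sigma P ⟨u, hu⟩ o = o).card = 3 := by
    have hsig : sigma P ⟨u, hu⟩ = Equiv.swap (g⁻¹ a) (g⁻¹ b) := huφ
    have : (Finset.univ.filter fun o : Orb P => sigma P ⟨u, hu⟩ o = o) =
        Finset.univ \ (Equiv.swap (g⁻¹ a) (g⁻¹ b)).support := by
      ext o
      simp [hsig]
    rw [this, Finset.card_sdiff_of_subset (Finset.subset_univ _), Finset.card_univ,
      hp.card_orb hc, Equiv.Perm.card_support_swap hab']
  have h4 := involution_moved hc hu2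
  by_cases hco : Commute u x
  · have h := hp.fix_count hc ⟨u, hu⟩ hu2 (c := 5) (Or.inl ⟨hco, rfl⟩)
    rw [h3] at h
    change {Q : Sylow 5 G | u • Q = Q}.ncard + 5 = 1 + 5 * 3 at h
    omega
  · have h := hp.fix_count hc ⟨u, hu⟩ hu2 (c := 1) (Or.inr ⟨hco, rfl⟩)
    rw [h3] at h
    change {Q : Sylow 5 G | u • Q = Q}.ncard + 1 = 1 + 1 * 3 at h
    omega

end Cfsg.Agent.Fg24.TwentyOne
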